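import Cfsg.Agent.Twisted.Cert
import Cfsg.Agent.Twisted.Torus
import Cfsg.Agent.ChevGroup.Mat.D4
import Cfsg.Agent.ChevIsogeny.Types.D4

/-!
The tables of the twisted form of type D4, and their checks.
-/

set_option autoImplicit false

namespace Cfsg.Agent.Twisted.TypeD4

open ChevGroup

/-- the symmetry on the roots -/
def rhoL : List (Fin 24) :=
    [0, 1, 6, 2, 7, 10, 3, 8, 4, 9, 11, 5, 18, 12, 14, 19, 15, 20, 13, 16, 21, 17, 22, 23]

/-- coordinates on the fundamental roots -/
def vecL : List (List ℤ) :=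
    [[-1, -2, -1, -1], [-1, -1, -1, -1], [-1, -1, -1, 0], [-1, -1, 0, -1], [-1, -1, 0, 0], [-1,
    0, 0, 0], [0, -1, -1, -1], [0, -1, -1, 0], [0, -1, 0, -1], [0, -1, 0, 0], [0, 0, -1, 0], [0,
    0, 0, -1], [0, 0, 0, 1], [0, 0, 1, 0], [0, 1, 0, 0], [0, 1, 0, 1], [0, 1, 1, 0], [0, 1, 1,
    1], [1, 0, 0, 0], [1, 1, 0, 0], [1, 1, 0, 1], [1, 1, 1, 0], [1, 1, 1, 1], [1, 2, 1, 1]]

/-- the orbits -/
def orb : OrbitData TypeD4.model.tab.n TypeD4.model.tab.l 2 where
  rho r := (rhoL.getD r.val 0 : Fin 24)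
  cls k := ([[14], [18, 12, 13]] : List (List (Fin 24))).getD k.val []
  wd k := ([[1], [0, 2, 3]] : List (List (Fin 4))).getD k.val []
  vec r j := (vecL.getD r.val []).getD j.val 0
  step i j := (([[2, -1, 0, 0], [-1, 2, -1, -1], [0, -1, 2, 0], [0, -1, 0, 2]] : List (List ℤ)).getD i.val []).getD j.val 0
  rep k := ([[[], [1]], [[], [0], [2], [3], [2, 0], [3, 0], [3, 2], [3, 2, 0]]] : List (List (List (Fin 4)))).getD k.val []
  base k := ([14, 18] : List (Fin 24)).getD k.val 0

/-- the frame -/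
def fd : FrameData TypeD4.model (κ := 2) where
  O := orb
  orth k := ([[14], [12, 13, 18]] : List (List (Fin 24))).getD k.val []
  wit := ChevGroup.TypeD4.rootWit
  w0 := ChevGroup.TypeD4.w0

/-- the longest word -/
def W0 : List (Fin 2) := [1, 0, 1, 0, 1, 0]

/-- `2` times the inverse of the Cartan matrix -/
def inv (i j : Fin TypeD4.model.tab.l) : ℤ :=
  (([[2, 2, 1, 1], [2, 4, 2, 2], [1, 2, 2, 1], [1, 2, 1, 2]] : List (List ℤ)).getD i.val []).getD j.val 0

/-- step 0 of the chain -/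
def step0 : TStepData TypeD4.model.tab.n 2 where
  m := 6
  KS := [0, 1]
  JS := [0]
  rep :=
    [[], [1], [0, 1], [1, 0, 1], [0, 1, 0, 1], [1, 0, 1, 0, 1]]
  tgt :=
    [[0, 2, 1, 4, 3, 5], [1, 0, 3, 2, 5, 4]]
  v :=
    [[[0], [], [], [], [], [0]], [[], [], [], [], [], []]]
  span := ([12, 13, 15, 16, 17, 18, 19, 20, 21, 22, 23] : List (Fin 24))

/-- step 1 of the chain -/
def step1 : TStepData TypeD4.model.tab.n 2 where
  m := 2
  KS := [0]
  JS := []
  rep :=
    [[], [0]]
  tgt :=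
    [[1, 0], []]
  v :=
    [[[], []], []]
  span := ([12, 13, 14, 15, 16, 17, 18, 19, 20, 21, 22, 23] : List (Fin 24))

theorem ok : fd.okB ChevIsogeny.D4.iso = true := by decide +kernel

theorem torOk : TorOk fd := ⟨by decide +kernel, by decide +kernel⟩

theorem inv_ok : fd.invB 2 inv = true := by decide +kernel

theorem long_ok : orb.longB TypeD4.model.S W0 = true := by decide +kernel

theorem distinct_ok : orb.distinctB TypeD4.model.S = true := by decide +kernel

theorem irr_ok : orb.irrB TypeD4.model.S = true := by decide +kernel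

theorem refl0_ok : fd.reflB ChevIsogeny.D4.iso 0 = true := by decide +kernel

theorem refl1_ok : fd.reflB ChevIsogeny.D4.iso 1 = true := by decide +kernel

theorem step0_ok : orb.stepB TypeD4.model.S step0 = true := by decide +kernel

theorem step1_ok : orb.stepB TypeD4.model.S step1 = true := by decide +kernel

end Cfsg.Agent.Twisted.TypeD4
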