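import Cfsg.Agent.Twisted.Cert
import Cfsg.Agent.Twisted.Torus
import Cfsg.Agent.ChevGroup.Mat.E6
import Cfsg.Agent.ChevIsogeny.Types.E6

/-!
The tables of the twisted form of type E6, and their checks.
-/

set_option autoImplicit false

namespace Cfsg.Agent.Twisted.TypeE6

open ChevGroup

/-- the symmetry on the roots -/
def rhoL : List (Fin 72) :=
    [0, 1, 2, 5, 16, 3, 6, 17, 8, 19, 22, 11, 26, 30, 33, 35, 4, 7, 18, 9, 20, 23, 10, 21, 24,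
    25, 12, 27, 31, 34, 13, 28, 32, 14, 29, 15, 56, 42, 57, 39, 43, 58, 37, 40, 44, 59, 46, 47,
    50, 61, 48, 51, 62, 53, 64, 67, 36, 38, 41, 45, 60, 49, 52, 63, 54, 65, 68, 55, 66, 69, 70,
    71]

/-- coordinates on the fundamental roots -/
def vecL : List (List ℤ) :=
    [[-1, -2, -2, -3, -2, -1], [-1, -1, -2, -3, -2, -1], [-1, -1, -2, -2, -2, -1], [-1, -1, -2,
    -2, -1, -1], [-1, -1, -2, -2, -1, 0], [-1, -1, -1, -2, -2, -1], [-1, -1, -1, -2, -1, -1],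
    [-1, -1, -1, -2, -1, 0], [-1, -1, -1, -1, -1, -1], [-1, -1, -1, -1, -1, 0], [-1, -1, -1, -1,
    0, 0], [-1, 0, -1, -1, -1, -1], [-1, 0, -1, -1, -1, 0], [-1, 0, -1, -1, 0, 0], [-1, 0, -1, 0,
    0, 0], [-1, 0, 0, 0, 0, 0], [0, -1, -1, -2, -2, -1], [0, -1, -1, -2, -1, -1], [0, -1, -1, -2,
    -1, 0], [0, -1, -1, -1, -1, -1], [0, -1, -1, -1, -1, 0], [0, -1, -1, -1, 0, 0], [0, -1, 0,
    -1, -1, -1], [0, -1, 0, -1, -1, 0], [0, -1, 0, -1, 0, 0], [0, -1, 0, 0, 0, 0], [0, 0, -1, -1,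
    -1, -1], [0, 0, -1, -1, -1, 0], [0, 0, -1, -1, 0, 0], [0, 0, -1, 0, 0, 0], [0, 0, 0, -1, -1,
    -1], [0, 0, 0, -1, -1, 0], [0, 0, 0, -1, 0, 0], [0, 0, 0, 0, -1, -1], [0, 0, 0, 0, -1, 0],
    [0, 0, 0, 0, 0, -1], [0, 0, 0, 0, 0, 1], [0, 0, 0, 0, 1, 0], [0, 0, 0, 0, 1, 1], [0, 0, 0, 1,
    0, 0], [0, 0, 0, 1, 1, 0], [0, 0, 0, 1, 1, 1], [0, 0, 1, 0, 0, 0], [0, 0, 1, 1, 0, 0], [0, 0,
    1, 1, 1, 0], [0, 0, 1, 1, 1, 1], [0, 1, 0, 0, 0, 0], [0, 1, 0, 1, 0, 0], [0, 1, 0, 1, 1, 0],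
    [0, 1, 0, 1, 1, 1], [0, 1, 1, 1, 0, 0], [0, 1, 1, 1, 1, 0], [0, 1, 1, 1, 1, 1], [0, 1, 1, 2,
    1, 0], [0, 1, 1, 2, 1, 1], [0, 1, 1, 2, 2, 1], [1, 0, 0, 0, 0, 0], [1, 0, 1, 0, 0, 0], [1, 0,
    1, 1, 0, 0], [1, 0, 1, 1, 1, 0], [1, 0, 1, 1, 1, 1], [1, 1, 1, 1, 0, 0], [1, 1, 1, 1, 1, 0],
    [1, 1, 1, 1, 1, 1], [1, 1, 1, 2, 1, 0], [1, 1, 1, 2, 1, 1], [1, 1, 1, 2, 2, 1], [1, 1, 2, 2,
    1, 0], [1, 1, 2, 2, 1, 1], [1, 1, 2, 2, 2, 1], [1, 1, 2, 3, 2, 1], [1, 2, 2, 3, 2, 1]]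

/-- the orbits -/
def orb : OrbitData TypeE6.model.tab.n TypeE6.model.tab.l 4 where
  rho r := (rhoL.getD r.val 0 : Fin 72)
  cls k := ([[46], [39], [42, 37], [56, 36]] : List (List (Fin 72))).getD k.val []
  wd k := ([[1], [3], [2, 4], [0, 5]] : List (List (Fin 6))).getD k.val []
  vec r j := (vecL.getD r.val []).getD j.val 0
  step i j := (([[2, 0, -1, 0, 0, 0], [0, 2, 0, -1, 0, 0], [-1, 0, 2, -1, 0, 0], [0, -1, -1, 2, -1, 0], [0, 0, 0, -1, 2, -1], [0, 0, 0, 0, -1, 2]] : List (List ℤ)).getD i.val []).getD j.val 0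
  rep k := ([[[], [1]], [[], [3]], [[], [2], [4], [4, 2]], [[], [0], [5], [5, 0]]] : List (List (List (Fin 6)))).getD k.val []
  base k := ([46, 39, 42, 56] : List (Fin 72)).getD k.val 0

/-- the frame -/
def fd : FrameData TypeE6.model (κ := 4) where
  O := orb
  orth k := ([[46], [39], [37, 42], [36, 56]] : List (List (Fin 72))).getD k.val []
  wit := ChevGroup.TypeE6.rootWit
  w0 := ChevGroup.TypeE6.w0

/-- the longest word -/
def W0 : List (Fin 4) := [3, 2, 1, 2, 0, 1, 2, 3, 2, 1, 2, 0, 1, 2, 3, 2, 1, 2, 0, 1, 2, 0, 1, 0]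

/-- `3` times the inverse of the Cartan matrix -/
def inv (i j : Fin TypeE6.model.tab.l) : ℤ :=
  (([[4, 3, 5, 6, 4, 2], [3, 6, 6, 9, 6, 3], [5, 6, 10, 12, 8, 4], [6, 9, 12, 18, 12, 6], [4, 6, 8, 12, 10, 5], [2, 3, 4, 6, 5, 4]] : List (List ℤ)).getD i.val []).getD j.val 0

/-- step 0 of the chain -/
def step0 : TStepData TypeE6.model.tab.n 4 where
  m := 24
  KS := [0, 1, 2, 3]
  JS := [0, 1, 2]
  rep :=
    [[], [3], [2, 3], [1, 2, 3], [0, 1, 2, 3], [2, 1, 2, 3], [2, 0, 1, 2, 3], [3, 2, 1, 2, 3],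
    [1, 2, 0, 1, 2, 3], [3, 2, 0, 1, 2, 3], [2, 1, 2, 0, 1, 2, 3], [3, 1, 2, 0, 1, 2, 3], [3, 2,
    1, 2, 0, 1, 2, 3], [2, 3, 1, 2, 0, 1, 2, 3], [2, 3, 2, 1, 2, 0, 1, 2, 3], [1, 2, 3, 1, 2, 0,
    1, 2, 3], [1, 2, 3, 2, 1, 2, 0, 1, 2, 3], [0, 1, 2, 3, 1, 2, 0, 1, 2, 3], [0, 1, 2, 3, 2, 1,
    2, 0, 1, 2, 3], [2, 1, 2, 3, 2, 1, 2, 0, 1, 2, 3], [2, 0, 1, 2, 3, 2, 1, 2, 0, 1, 2, 3], [1,
    2, 0, 1, 2, 3, 2, 1, 2, 0, 1, 2, 3], [2, 1, 2, 0, 1, 2, 3, 2, 1, 2, 0, 1, 2, 3], [3, 2, 1, 2,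
    0, 1, 2, 3, 2, 1, 2, 0, 1, 2, 3]]
  tgt :=
    [[0, 1, 2, 4, 3, 6, 5, 9, 8, 7, 10, 11, 12, 13, 14, 17, 18, 15, 16, 20, 19, 21, 22, 23], [0,
    1, 3, 2, 4, 5, 8, 7, 6, 11, 10, 9, 12, 15, 16, 13, 14, 17, 18, 19, 21, 20, 22, 23], [0, 2, 1,
    5, 6, 3, 4, 7, 10, 9, 8, 13, 14, 11, 12, 15, 19, 17, 20, 16, 18, 22, 21, 23], [1, 0, 2, 3, 4,
    7, 9, 5, 11, 6, 12, 8, 10, 14, 13, 16, 15, 18, 17, 19, 20, 21, 23, 22]]
  v :=
    [[[0], [0], [0], [], [], [], [], [], [1], [], [1], [1], [1], [1], [1], [], [], [], [], [],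
    [], [0], [0], [0]], [[1], [1], [], [], [0], [1], [], [1], [], [], [0], [], [0], [], [], [],
    [], [1], [1], [0], [], [], [1], [1]], [[2], [], [], [], [], [], [], [2], [], [2], [], [], [],
    [], [], [2], [], [2], [], [], [], [], [], [2]], [[], [], [2], [2], [2], [], [], [], [], [],
    [], [], [], [], [], [], [], [], [], [2], [2], [2], [], []]]
  span := ([36, 38, 41, 45, 49, 52, 54, 55, 56, 57, 58, 59, 60, 61, 62, 63, 64, 65, 66, 67, 68, 69, 70, 71] : List (Fin 72))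

/-- step 1 of the chain -/
def step1 : TStepData TypeE6.model.tab.n 4 where
  m := 8
  KS := [0, 1, 2]
  JS := [0, 1]
  rep :=
    [[], [2], [1, 2], [0, 1, 2], [2, 1, 2], [2, 0, 1, 2], [1, 2, 0, 1, 2], [2, 1, 2, 0, 1, 2]]
  tgt :=
    [[0, 1, 3, 2, 5, 4, 6, 7], [0, 2, 1, 3, 4, 6, 5, 7], [1, 0, 4, 5, 2, 3, 7, 6], []]
  v :=
    [[[0], [0], [], [], [], [], [1], [1]], [[1], [], [], [0], [1], [], [], [0]], [[], [], [], [],
    [], [], [], []], []]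
  span := ([36, 37, 38, 40, 41, 42, 43, 44, 45, 48, 49, 50, 51, 52, 53, 54, 55, 56, 57, 58, 59, 60, 61, 62, 63, 64, 65, 66, 67, 68, 69, 70, 71] : List (Fin 72))

/-- step 2 of the chain -/
def step2 : TStepData TypeE6.model.tab.n 4 where
  m := 3
  KS := [0, 1]
  JS := [0]
  rep :=
    [[], [1], [0, 1]]
  tgt :=
    [[0, 2, 1], [1, 0, 2], [], []]
  v :=
    [[[0], [], []], [[], [], [0]], [], []]
  span := ([36, 37, 38, 39, 40, 41, 42, 43, 44, 45, 47, 48, 49, 50, 51, 52, 53, 54, 55, 56, 57, 58, 59, 60, 61, 62, 63, 64, 65, 66, 67, 68, 69, 70, 71] : List (Fin 72))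

/-- step 3 of the chain -/
def step3 : TStepData TypeE6.model.tab.n 4 where
  m := 2
  KS := [0]
  JS := []
  rep :=
    [[], [0]]
  tgt :=
    [[1, 0], [], [], []]
  v :=
    [[[], []], [], [], []]
  span := ([36, 37, 38, 39, 40, 41, 42, 43, 44, 45, 46, 47, 48, 49, 50, 51, 52, 53, 54, 55, 56, 57, 58, 59, 60, 61, 62, 63, 64, 65, 66, 67, 68, 69, 70, 71] : List (Fin 72))

theorem ok : fd.okB ChevIsogeny.E6.iso = true := by decide +kernel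

theorem torOk : TorOk fd := ⟨by decide +kernel, by decide +kernel⟩

theorem inv_ok : fd.invB 3 inv = true := by decide +kernel

theorem long_ok : orb.longB TypeE6.model.S W0 = true := by decide +kernel

theorem distinct_ok : orb.distinctB TypeE6.model.S = true := by decide +kernel

theorem irr_ok : orb.irrB TypeE6.model.S = true := by decide +kernel

theorem refl0_ok : fd.reflB ChevIsogeny.E6.iso 0 = true := by decide +kernel

theorem refl1_ok : fd.reflB ChevIsogeny.E6.iso 1 = true := by decide +kernel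

theorem refl2_ok : fd.reflB ChevIsogeny.E6.iso 2 = true := by decide +kernel

theorem refl3_ok : fd.reflB ChevIsogeny.E6.iso 3 = true := by decide +kernel

theorem step0_ok : orb.stepB TypeE6.model.S step0 = true := by decide +kernel

theorem step1_ok : orb.stepB TypeE6.model.S step1 = true := by decide +kernel

theorem step2_ok : orb.stepB TypeE6.model.S step2 = true := by decide +kernel

theorem step3_ok : orb.stepB TypeE6.model.S step3 = true := by decide +kernel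

end Cfsg.Agent.Twisted.TypeE6
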