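import Cfsg.Agent.Twisted.Cert
import Cfsg.Agent.Twisted.Torus
import Cfsg.Agent.ChevGroup.Mat.F4
import Cfsg.Agent.ChevIsogeny.Types.F4

/-!
The tables of the twisted form of type F4, and their checks.
-/

set_option autoImplicit false

namespace Cfsg.Agent.Twisted.TypeF4

open ChevGroup

/-- the symmetry on the roots -/
def rhoL : List (Fin 48) :=
    [3, 7, 8, 0, 9, 11, 18, 1, 2, 4, 15, 5, 16, 21, 23, 10, 12, 19, 6, 17, 22, 13, 20, 14, 33,
    27, 34, 25, 30, 41, 28, 35, 37, 24, 26, 31, 42, 32, 43, 45, 46, 29, 36, 38, 47, 39, 40, 44]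

/-- coordinates on the fundamental roots -/
def vecL : List (List ℤ) :=
    [[-2, -4, -3, -2], [-2, -4, -3, -1], [-2, -4, -2, -1], [-2, -3, -2, -1], [-2, -2, -2, -1],
    [-2, -2, -1, -1], [-2, -2, -1, 0], [-1, -3, -2, -1], [-1, -2, -2, -1], [-1, -2, -1, -1], [-1,
    -2, -1, 0], [-1, -1, -1, -1], [-1, -1, -1, 0], [-1, -1, 0, 0], [-1, 0, 0, 0], [0, -2, -2,
    -1], [0, -2, -1, -1], [0, -2, -1, 0], [0, -1, -1, -1], [0, -1, -1, 0], [0, -1, 0, 0], [0, 0,
    -1, -1], [0, 0, -1, 0], [0, 0, 0, -1], [0, 0, 0, 1], [0, 0, 1, 0], [0, 0, 1, 1], [0, 1, 0,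
    0], [0, 1, 1, 0], [0, 1, 1, 1], [0, 2, 1, 0], [0, 2, 1, 1], [0, 2, 2, 1], [1, 0, 0, 0], [1,
    1, 0, 0], [1, 1, 1, 0], [1, 1, 1, 1], [1, 2, 1, 0], [1, 2, 1, 1], [1, 2, 2, 1], [1, 3, 2, 1],
    [2, 2, 1, 0], [2, 2, 1, 1], [2, 2, 2, 1], [2, 3, 2, 1], [2, 4, 2, 1], [2, 4, 3, 1], [2, 4, 3,
    2]]

/-- the orbits -/
def orb : OrbitData TypeF4.model.tab.n TypeF4.model.tab.l 2 where
  rho r := (rhoL.getD r.val 0 : Fin 48)
  cls k := ([[33, 24], [27, 25, 28, 30]] : List (List (Fin 48))).getD k.val []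
  wd k := ([[0, 3], [1, 2, 1, 2]] : List (List (Fin 4))).getD k.val []
  vec r j := (vecL.getD r.val []).getD j.val 0
  step i j := (([[2, -1, 0, 0], [-1, 2, -2, 0], [0, -1, 2, -1], [0, 0, -1, 2]] : List (List ℤ)).getD i.val []).getD j.val 0
  rep k := ([[[], [0], [3], [3, 0]], [[], [1], [2], [2, 1], [1, 2], [1, 2, 1], [2, 1, 2], [2, 1, 2, 1]]] : List (List (List (Fin 4)))).getD k.val []
  base k := ([33, 27] : List (Fin 48)).getD k.val 0

/-- the frame -/
def fd : FrameData TypeF4.model (κ := 2) where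
  O := orb
  orth k := ([[24, 33], [28, 30]] : List (List (Fin 48))).getD k.val []
  wit := ChevGroup.TypeF4.rootWit
  w0 := ChevGroup.TypeF4.w0

/-- the longest word -/
def W0 : List (Fin 2) := [1, 0, 1, 0, 1, 0, 1, 0]

/-- `1` times the inverse of the Cartan matrix -/
def inv (i j : Fin TypeF4.model.tab.l) : ℤ :=
  (([[2, 3, 4, 2], [3, 6, 8, 4], [2, 4, 6, 3], [1, 2, 3, 2]] : List (List ℤ)).getD i.val []).getD j.val 0

/-- step 0 of the chain -/
def step0 : TStepData TypeF4.model.tab.n 2 where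
  m := 8
  KS := [0, 1]
  JS := [0]
  rep :=
    [[], [1], [0, 1], [1, 0, 1], [0, 1, 0, 1], [1, 0, 1, 0, 1], [0, 1, 0, 1, 0, 1], [1, 0, 1, 0,
    1, 0, 1]]
  tgt :=
    [[0, 2, 1, 4, 3, 6, 5, 7], [1, 0, 3, 2, 5, 4, 7, 6]]
  v :=
    [[[0], [], [], [], [], [], [], [0]], [[], [], [], [], [], [], [], []]]
  span := ([25, 26, 27, 28, 29, 30, 31, 32, 34, 35, 36, 37, 38, 39, 40, 41, 42, 43, 44, 45, 46, 47] : List (Fin 48))

/-- step 1 of the chain -/
def step1 : TStepData TypeF4.model.tab.n 2 where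
  m := 2
  KS := [0]
  JS := []
  rep :=
    [[], [0]]
  tgt :=
    [[1, 0], []]
  v :=
    [[[], []], []]
  span := ([24, 25, 26, 27, 28, 29, 30, 31, 32, 33, 34, 35, 36, 37, 38, 39, 40, 41, 42, 43, 44, 45, 46, 47] : List (Fin 48))

theorem ok : fd.okB ChevIsogeny.F4.iso = true := by decide +kernel

theorem torOk : TorOk fd := ⟨by decide +kernel, by decide +kernel⟩

theorem inv_ok : fd.invB 1 inv = true := by decide +kernel

theorem long_ok : orb.longB TypeF4.model.S W0 = true := by decide +kernel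

theorem distinct_ok : orb.distinctB TypeF4.model.S = true := by decide +kernel

theorem irr_ok : orb.irrB TypeF4.model.S = true := by decide +kernel

theorem refl0_ok : fd.reflB ChevIsogeny.F4.iso 0 = true := by decide +kernel

theorem step0_ok : orb.stepB TypeF4.model.S step0 = true := by decide +kernel

theorem step1_ok : orb.stepB TypeF4.model.S step1 = true := by decide +kernel

end Cfsg.Agent.Twisted.TypeF4
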