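import Cfsg.Agent.Twisted.Cert
import Cfsg.Agent.Twisted.Torus
import Cfsg.Agent.ChevGroup.Mat.G2
import Cfsg.Agent.ChevIsogeny.Types.G2

/-!
The tables of the twisted form of type G2, and their checks.
-/

set_option autoImplicit false

namespace Cfsg.Agent.Twisted.TypeG2

open ChevGroup

/-- the symmetry on the roots -/
def rhoL : List (Fin 12) :=
    [2, 3, 0, 1, 5, 4, 7, 6, 10, 11, 8, 9]

/-- coordinates on the fundamental roots -/
def vecL : List (List ℤ) :=
    [[-3, -2], [-3, -1], [-2, -1], [-1, -1], [-1, 0], [0, -1], [0, 1], [1, 0], [1, 1], [2, 1],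
    [3, 1], [3, 2]]

/-- the orbits -/
def orb : OrbitData TypeG2.model.tab.n TypeG2.model.tab.l 1 where
  rho r := (rhoL.getD r.val 0 : Fin 12)
  cls k := ([[7, 6, 8, 9, 10, 11]] : List (List (Fin 12))).getD k.val []
  wd k := ([[0, 1, 0, 1, 0, 1]] : List (List (Fin 2))).getD k.val []
  vec r j := (vecL.getD r.val []).getD j.val 0
  step i j := (([[2, -3], [-1, 2]] : List (List ℤ)).getD i.val []).getD j.val 0
  rep k := ([[[], [0], [1], [1, 0], [0, 1], [0, 1, 0], [1, 0, 1], [1, 0, 1, 0], [0, 1, 0, 1], [0, 1, 0, 1, 0], [1, 0, 1, 0, 1], [1, 0, 1, 0, 1, 0]]] : List (List (List (Fin 2)))).getD k.val []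
  base k := ([7] : List (Fin 12)).getD k.val 0

/-- the frame -/
def fd : FrameData TypeG2.model (κ := 1) where
  O := orb
  orth k := ([[8, 10]] : List (List (Fin 12))).getD k.val []
  wit := ChevGroup.TypeG2.rootWit
  w0 := ChevGroup.TypeG2.w0

/-- the longest word -/
def W0 : List (Fin 1) := [0]

/-- `1` times the inverse of the Cartan matrix -/
def inv (i j : Fin TypeG2.model.tab.l) : ℤ :=
  (([[2, 3], [1, 2]] : List (List ℤ)).getD i.val []).getD j.val 0

/-- step 0 of the chain -/
def step0 : TStepData TypeG2.model.tab.n 1 where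
  m := 2
  KS := [0]
  JS := []
  rep :=
    [[], [0]]
  tgt :=
    [[1, 0]]
  v :=
    [[[], []]]
  span := ([6, 7, 8, 9, 10, 11] : List (Fin 12))

theorem ok : fd.okB ChevIsogeny.G2.iso = true := by decide +kernel

theorem torOk : TorOk fd := ⟨by decide +kernel, by decide +kernel⟩

theorem inv_ok : fd.invB 1 inv = true := by decide +kernel

theorem long_ok : orb.longB TypeG2.model.S W0 = true := by decide +kernel

theorem distinct_ok : orb.distinctB TypeG2.model.S = true := by decide +kernel

theorem irr_ok : orb.irrB TypeG2.model.S = true := by decide +kernel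

theorem refl0_ok : fd.reflB ChevIsogeny.G2.iso 0 = true := by decide +kernel

theorem step0_ok : orb.stepB TypeG2.model.S step0 = true := by decide +kernel

end Cfsg.Agent.Twisted.TypeG2
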